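import Mathlib
import Cfsg.Agent.S0215

/-!
Fusion in a Sylow `2`-subgroup `⟨t⟩ × U` when `C(t) = ⟨t⟩ × L` and `U` is a self-centralising
elementary abelian subgroup of `L` whose normaliser is transitive on `U#`.
-/

set_option autoImplicit false
set_option linter.unusedSectionVars false
set_option linter.style.haveILetI false

namespace Cfsg.Agent.H19.Ward

open Subgroup

/-- A self-centralising elementary abelian `2`-subgroup, non-identity elements all conjugate under
its normaliser. -/
structure TransPart {L : Type*} [Group L] (U : Subgroup L) : Prop where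
  four : 4 ≤ Nat.card U
  sq : ∀ u ∈ U, u * u = 1
  self : ∀ g : L, ∀ u ∈ U, u ≠ 1 → Commute g u → g ∈ U
  trans : ∀ u ∈ U, ∀ v ∈ U, u ≠ 1 → v ≠ 1 → ∃ g ∈ normalizer (U : Set L), g * u * g⁻¹ = v

namespace TransPart

variable {L : Type*} [Group L] {U : Subgroup L} (h : TransPart U)
include h

theorem comm {u v : L} (hu : u ∈ U) (hv : v ∈ U) : Commute u v := by
  have h1 := h.sq _ (mul_mem hu hv)
  have hu' : u⁻¹ = u := inv_eq_of_mul_eq_one_right (h.sq u hu)
  have hv' : v⁻¹ = v := inv_eq_of_mul_eq_one_right (h.sq v hv)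
  show u * v = v * u
  rw [← inv_eq_of_mul_eq_one_right h1, mul_inv_rev, hu', hv']

theorem exists_ne [Finite L] (c : L) : ∃ u ∈ U, u ≠ 1 ∧ u ≠ c := by
  by_contra hc
  push Not at hc
  have : (U : Set L) ⊆ {1, c} := fun u hu => by
    by_cases h1 : u = 1
    · exact Or.inl h1
    · exact Or.inr (hc u hu h1)
  have h2 := Set.ncard_le_ncard this (Set.toFinite _)
  have h3 : ({1, c} : Set L).ncard ≤ 2 :=
    (Set.ncard_insert_le _ _).trans (by rw [Set.ncard_singleton])
  have h4 := h.four
  rw [← SetLike.coe_sort_coe, Nat.card_coe_set_eq] at h4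
  omega

theorem center_eq_one [Finite L] {c : L} (hc : ∀ g, Commute c g) : c = 1 := by
  by_contra hne
  obtain ⟨u, hu, hu1, huc⟩ := h.exists_ne c
  obtain ⟨g, -, hg⟩ := h.trans c (h.self c u hu hu1 (hc u)) u hu hne hu1
  rw [← (hc g).eq, mul_inv_cancel_right] at hg
  exact huc hg.symm

theorem exists_not_commute [Finite L] : ∃ a b : L, ¬ Commute a b := by
  obtain ⟨u, hu, hu1, -⟩ := h.exists_ne 1
  obtain ⟨v, hv, hv1, hvu⟩ := h.exists_ne u
  obtain ⟨g, -, hg⟩ := h.trans u hu v hv hu1 hv1
  refine ⟨g, u, fun hcom => hvu ?_⟩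
  rw [← hg, hcom.eq, mul_inv_cancel_right]

theorem even_card [Finite L] : Even (Nat.card U) := by
  obtain ⟨u, hu, hu1, -⟩ := h.exists_ne 1
  have h2 : orderOf u = 2 := orderOf_eq_prime (by rw [pow_two]; exact h.sq u hu) hu1
  exact even_iff_two_dvd.2 (h2 ▸ Subgroup.orderOf_dvd_natCard U hu)

theorem isPGroup : IsPGroup 2 U := fun u => ⟨1, Subtype.ext (by
  rw [pow_one, Subgroup.coe_pow, pow_two]
  exact h.sq _ u.2)⟩

end TransPart

/-- The group of order two. -/
abbrev Z2 : Type := Multiplicative (ZMod 2)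

/-- The non-identity element of `Z2`. -/
abbrev z2 : Z2 := Multiplicative.ofAdd 1

theorem z2_cases (a : Z2) : a = 1 ∨ a = z2 := by revert a; decide

theorem z2_sq (a : Z2) : a * a = 1 := by revert a; decide

variable {G : Type*} [Group G] {L : Type*} [Group L] {t : G}
  (e : centralizer ({t} : Set G) ≃* Z2 × L) (U : Subgroup L)

/-- The inclusion of `⟨t⟩ × L` in `G`. -/
noncomputable def emb : Z2 × L →* G :=
  (centralizer ({t} : Set G)).subtype.comp e.symm.toMonoidHom

theorem emb_injective : Function.Injective (emb e) :=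
  (Subgroup.subtype_injective _).comp e.symm.injective

theorem emb_one : emb e ((1 : Z2), (1 : L)) = 1 := map_one _

theorem emb_mem (x : Z2 × L) : emb e x ∈ centralizer ({t} : Set G) := (e.symm x).2

theorem exists_emb {g : G} (hg : g ∈ centralizer ({t} : Set G)) : ∃ x, emb e x = g :=
  ⟨e ⟨g, hg⟩, congrArg Subtype.val (e.symm_apply_apply ⟨g, hg⟩)⟩

/-- The image of `⟨t⟩ × U`. -/
noncomputable def blk : Subgroup G := ((⊤ : Subgroup Z2).prod U).map (emb e)

theorem emb_mem_blk {x : Z2 × L} : emb e x ∈ blk e U ↔ x.2 ∈ U := by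
  rw [blk, ← SetLike.mem_coe, Subgroup.coe_map, (emb_injective e).mem_set_image, SetLike.mem_coe,
    Subgroup.mem_prod]
  simp

theorem card_blk : Nat.card (blk e U) = 2 * Nat.card U := by
  rw [blk, Subgroup.card_map_of_injective (emb_injective e),
    Nat.card_congr (Subgroup.prodEquiv (⊤ : Subgroup Z2) U).toEquiv, Nat.card_prod,
    Subgroup.card_top]
  simp

theorem exists_of_mem_blk {g : G} (hg : g ∈ blk e U) : ∃ a : Z2, ∃ u ∈ U, emb e (a, u) = g := by
  obtain ⟨⟨a, u⟩, hu, rfl⟩ := hg
  exact ⟨a, u, hu.2, rfl⟩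

theorem blk_le : blk e U ≤ centralizer ({t} : Set G) := by
  rintro g ⟨x, -, rfl⟩
  exact emb_mem e x

/-- An element normalising `U` gives one normalising the block. -/
theorem emb_mem_normalizer {x : Z2 × L} (hx : x.2 ∈ normalizer (U : Set L)) :
    emb e x ∈ normalizer (blk e U : Set G) := by
  have key : ∀ y : Z2 × L, y.2 ∈ normalizer (U : Set L) → ∀ g ∈ blk e U,
      emb e y * g * (emb e y)⁻¹ ∈ blk e U := by
    intro y hy g hg
    obtain ⟨a, u, hu, rfl⟩ := exists_of_mem_blk e U hg
    rw [← map_inv, ← map_mul, ← map_mul, emb_mem_blk]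
    exact (mem_normalizer_iff.1 hy u).1 hu
  refine mem_normalizer_iff.2 fun g => ⟨key x hx g, fun hg => ?_⟩
  have := key x⁻¹ (inv_mem hx) _ hg
  simpa [mul_assoc] using this

variable {e U} (h : TransPart U)
include h

theorem blk_sq {g : G} (hg : g ∈ blk e U) : g * g = 1 := by
  obtain ⟨a, u, hu, rfl⟩ := exists_of_mem_blk e U hg
  rw [← map_mul, Prod.mk_mul_mk, z2_sq, h.sq u hu, emb_one]

variable [Finite G] [Finite L]

theorem emb_z2 (ht : orderOf t = 2) : emb e (z2, 1) = t := by
  obtain ⟨⟨a, c⟩, hx⟩ := exists_emb e (g := t) (mem_centralizer_singleton_iff.2 rfl)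
  have hc : c = 1 := h.center_eq_one fun g => by
    have h1 : Commute (emb e ((1 : Z2), g)) (emb e (a, c)) := by
      rw [hx]; exact mem_centralizer_singleton_iff.1 (emb_mem e _)
    exact ((Commute.of_map (emb_injective e) h1).map (MonoidHom.snd Z2 L)).symm
  subst hc
  rcases z2_cases a with rfl | rfl
  · rw [emb_one] at hx
    rw [← hx, orderOf_one] at ht
    omega
  · exact hx

theorem t_mem_blk (ht : orderOf t = 2) : t ∈ blk e U := by
  have h1 : emb e (z2, (1 : L)) ∈ blk e U := (emb_mem_blk e U).2 (one_mem U)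
  rwa [emb_z2 (e := e) h ht] at h1

theorem exists_sylow (hab : ∀ P : Sylow 2 G, ∀ a b : P, a * b = b * a) (ht : orderOf t = 2) :
    ∃ S : Sylow 2 G, (S : Subgroup G) = blk e U := by
  have hp : IsPGroup 2 (blk e U) := fun g => ⟨1, Subtype.ext (by
    rw [pow_one, Subgroup.coe_pow, pow_two]
    exact blk_sq h g.2)⟩
  obtain ⟨P, hP⟩ := hp.exists_le_sylow
  refine ⟨P, le_antisymm (fun g hg => ?_) hP⟩
  have hcomm : ∀ x ∈ blk e U, Commute g x := fun x hx =>
    congrArg Subtype.val (hab P ⟨g, hg⟩ ⟨x, hP hx⟩)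
  obtain ⟨x, rfl⟩ := exists_emb e (g := g)
    (mem_centralizer_singleton_iff.2 (hcomm t (t_mem_blk h ht)).eq)
  obtain ⟨u, hu, hu1, -⟩ := h.exists_ne 1
  refine (emb_mem_blk e U).2 (h.self _ u hu hu1 ?_)
  exact (Commute.of_map (emb_injective e)
    (hcomm (emb e ((1 : Z2), u)) ((emb_mem_blk e U).2 hu))).map (MonoidHom.snd Z2 L)

theorem not_commutative (e : centralizer ({t} : Set G) ≃* Z2 × L) :
    ∃ a b : G, a * b ≠ b * a := by
  obtain ⟨a, b, hab⟩ := h.exists_not_commute
  refine ⟨emb e (1, a), emb e (1, b), fun he => hab ?_⟩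
  exact (Commute.of_map (emb_injective e) he).map (MonoidHom.snd Z2 L)

/-- In a simple group the normaliser of the block is transitive on its involutions. -/
theorem trans_all [IsSimpleGroup G] (hab : ∀ P : Sylow 2 G, ∀ a b : P, a * b = b * a)
    (ht : orderOf t = 2) {x : G} (hx : x ∈ blk e U) (hx1 : x ≠ 1) :
    ∃ n ∈ normalizer (blk e U : Set G), n * t * n⁻¹ = x := by
  classical
  obtain ⟨S, hS⟩ := exists_sylow (e := e) h hab ht
  set N := normalizer (blk e U : Set G) with hN
  let O : Set G := {y | ∃ n ∈ N, n * t * n⁻¹ = y}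
  have htB := t_mem_blk (e := e) h ht
  have ht1 : t ≠ 1 := fun e' => by rw [e', orderOf_one] at ht; omega
  have hOB : ∀ y ∈ O, y ∈ blk e U ∧ y ≠ 1 := by
    rintro y ⟨n, hn, rfl⟩
    exact ⟨(mem_normalizer_iff.1 hn t).1 htB, fun e' => ht1 (conj_eq_one_iff.1 e')⟩
  have htO : t ∈ O := ⟨1, one_mem _, by group⟩
  -- the orbit has odd size
  have hodd : Odd (Nat.card O) := by
    letI : MulAction N G := MulAction.compHom G (MulAut.conj.comp N.subtype)
    have horb : MulAction.orbit N t = O := by
      ext y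
      constructor
      · rintro ⟨n, rfl⟩; exact ⟨n, n.2, rfl⟩
      · rintro ⟨n, hn, rfl⟩; exact ⟨⟨n, hn⟩, rfl⟩
    have hle : (blk e U).subgroupOf N ≤ MulAction.stabilizer N t := fun n hn => by
      show (n : G) * t * (n : G)⁻¹ = t
      have h1 : (n : G) * t = t * n :=
        mem_centralizer_singleton_iff.1 (blk_le e U hn)
      rw [h1, mul_inv_cancel_right]
    have h2 : (MulAction.stabilizer N t).index ∣ (S : Subgroup G).index := by
      rw [hS]
      exact (Subgroup.index_dvd_of_le hle).trans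
        (Subgroup.relIndex_dvd_index_of_le le_normalizer)
    rw [Nat.card_coe_set_eq, ← horb, ← MulAction.index_stabilizer]
    exact (Nat.odd_iff.2 (Nat.two_dvd_ne_zero.1 S.not_dvd_index)).of_dvd_nat h2
  -- fusion
  have hfus : ∀ g : G, g * t * g⁻¹ ∈ blk e U → g * t * g⁻¹ ∈ O := fun g hg => by
    have hcen : ∀ y ∈ blk e U, y ∈ centralizer ((S : Subgroup G) : Set G) := fun y hy =>
      mem_centralizer_iff.2 fun z hz => congrArg Subtype.val (hab S ⟨z, hz⟩ ⟨y, by rw [← hS] at hy; exact hy⟩)
    obtain ⟨n, hn, hne⟩ := S.conj_eq_normalizer_conj_of_mem_centralizer t g⁻¹ (hcen t htB)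
      (by rw [inv_inv]; exact hcen _ hg)
    rw [inv_inv] at hne
    refine ⟨n⁻¹, inv_mem ?_, by rw [inv_inv]; exact hne.symm⟩
    rw [hN, ← hS]
    exact hn
  -- the parts of the orbit
  have hpart : ∀ (a : Z2), ∀ u ∈ U, ∀ v ∈ U, u ≠ 1 → v ≠ 1 → emb e (a, u) ∈ O →
      emb e (a, v) ∈ O := by
    intro a u hu v hv hu1 hv1 hO
    obtain ⟨n, hn, hne⟩ := hO
    obtain ⟨g, hg, hgu⟩ := h.trans u hu v hv hu1 hv1
    refine ⟨emb e ((1 : Z2), g) * n, mul_mem (emb_mem_normalizer e U hg) hn, ?_⟩
    calc emb e ((1 : Z2), g) * n * t * (emb e ((1 : Z2), g) * n)⁻¹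
        = emb e ((1 : Z2), g) * (n * t * n⁻¹) * (emb e ((1 : Z2), g))⁻¹ := by group
      _ = emb e (a, v) := by
        rw [hne, ← map_inv, ← map_mul, ← map_mul, ← hgu]
        simp
  have hnotU : ∀ {u : L}, emb e ((1 : Z2), u) ≠ 1 → u ≠ 1 := fun {u} hne e' => hne (by
    rw [e', emb_one])
  obtain ⟨u0, hu0, hu01, -⟩ := h.exists_ne 1
  by_cases hall : ∀ a : Z2, emb e (a, u0) ∈ O
  · obtain ⟨a, u, hu, rfl⟩ := exists_of_mem_blk e U hx
    by_cases hu1 : u = 1
    · subst hu1
      rcases z2_cases a with rfl | rfl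
      · exact absurd (emb_one e) hx1
      · exact (emb_z2 (e := e) h ht).symm ▸ htO
    · exact hpart a u0 hu0 u hu hu01 hu1 (hall a)
  exfalso
  push Not at hall
  obtain ⟨b, hb⟩ := hall
  have hbad : ∀ u ∈ U, u ≠ 1 → emb e (b, u) ∉ O := fun u hu hu1 hO =>
    hb (hpart b u hu u0 hu0 hu1 hu01 hO)
  by_cases hsome : emb e (b * z2, u0) ∈ O
  · -- orbit of even size
    have hbij : O = Set.range fun u : U => if (u : L) = 1 then t else emb e (b * z2, (u : L)) := by
      ext y
      constructor
      · intro hy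
        obtain ⟨a, u, hu, rfl⟩ := exists_of_mem_blk e U (hOB y hy).1
        refine ⟨⟨u, hu⟩, ?_⟩
        by_cases hu1 : u = 1
        · subst hu1
          rcases z2_cases a with rfl | rfl
          · exact absurd (emb_one e) (hOB _ hy).2
          · simp [emb_z2 (e := e) h ht]
        · have hab' : a = b * z2 := by
            have : a ≠ b := fun e' => hbad u hu hu1 (e' ▸ hy)
            clear hy hbad hb hsome
            revert a b; decide
          simp [hu1, hab']
      · rintro ⟨⟨u, hu⟩, rfl⟩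
        by_cases hu1 : u = 1
        · simp [hu1, htO]
        · simpa [hu1] using hpart _ u0 hu0 u hu hu01 hu1 hsome
    have hinj : Function.Injective
        fun u : U => if (u : L) = 1 then t else emb e (b * z2, (u : L)) := by
      intro u v huv
      have hconv : ∀ w : U, (if (w : L) = 1 then t else emb e (b * z2, (w : L))) =
          emb e (if (w : L) = 1 then z2 else b * z2, (w : L)) := fun w => by
        split
        · next hw => rw [hw, emb_z2 (e := e) h ht]
        · rfl
      simp only [hconv] at huv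
      exact Subtype.ext (congrArg Prod.snd (emb_injective e huv))
    rw [hbij, Nat.card_range_of_injective hinj] at hodd
    exact Nat.not_even_iff_odd.2 hodd h.even_card
  · -- isolated involution
    have hsingle : ∀ y ∈ O, y = t := by
      intro y hy
      obtain ⟨a, u, hu, rfl⟩ := exists_of_mem_blk e U (hOB y hy).1
      by_cases hu1 : u = 1
      · subst hu1
        rcases z2_cases a with rfl | rfl
        · exact absurd (emb_one e) (hOB _ hy).2
        · exact emb_z2 h ht
      · exfalso
        have h1 := hpart a u hu u0 hu0 hu1 hu01 hy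
        have : a = b ∨ a = b * z2 := by
          clear hy h1 hb hbad hsome
          revert a b; decide
        rcases this with rfl | rfl
        · exact hb h1
        · exact hsome h1
    obtain ⟨N', hN', hoddN, hcom⟩ := Cfsg.Agent.S0215.result S t ht (show t ∈ (S : Subgroup G) by
      rw [hS]; exact htB) fun g hg => hsingle _ (hfus g (by rw [← hS]; exact hg))
    rcases hN'.eq_bot_or_eq_top with hbot | htop
    · -- `t` central
      have hcent : centralizer ({t} : Set G) = ⊤ := eq_top_iff.2 fun g _ => by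
        have := hcom g
        rw [hbot, mem_bot] at this
        rw [mem_centralizer_singleton_iff]
        calc g * t = 1 * (g * t) := (one_mul _).symm
          _ = t * g * t⁻¹ * g⁻¹ * (g * t) := by rw [this]
          _ = t * g := by group
      have hnor : (zpowers t).Normal := by
        constructor
        intro z hz g
        have h1 : Commute g t := mem_centralizer_singleton_iff.1 (hcent ▸ mem_top g)
        obtain ⟨k, rfl⟩ := mem_zpowers_iff.1 hz
        rw [(h1.zpow_right k).eq, mul_inv_cancel_right]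
        exact zpow_mem (mem_zpowers t) k
      rcases hnor.eq_bot_or_eq_top with h1 | h1
      · exact ht1 (zpowers_eq_bot.1 h1)
      · obtain ⟨p, q, hpq⟩ := not_commutative h e
        refine hpq ?_
        obtain ⟨i, rfl⟩ := mem_zpowers_iff.1 (h1 ▸ mem_top p)
        obtain ⟨j, rfl⟩ := mem_zpowers_iff.1 (h1 ▸ mem_top q)
        rw [← zpow_add, ← zpow_add, add_comm]
    · rw [htop, Subgroup.card_top] at hoddN
      exact (Nat.not_even_iff_odd.2 hoddN) (even_iff_two_dvd.2 (ht ▸ orderOf_dvd_natCard t))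

end Cfsg.Agent.H19.Ward
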