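import Cfsg.Agent.H19.Ward.Fusion
import Cfsg.Agent.Linear.Dickson.Borel
import Cfsg.Agent.Linear.Dickson.Scaled
import Cfsg.Agent.Linear.Order
import Cfsg.Agent.S0228

/-!
The self-centralising elementary abelian `2`-subgroups of `PSL₂(2ⁿ)` and `PSL₂(3)`.
-/

set_option autoImplicit false

namespace Cfsg.Agent.H19.Ward

open Subgroup Matrix Cfsg.Agent.Linear Cfsg.Agent.Linear.Dickson

variable {F : Type*} [Field F] [Fintype F]

local notation "M2" => Matrix (Fin 2) (Fin 2) F
local notation "S2" => Matrix.SpecialLinearGroup (Fin 2) F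
local notation "P2" => Matrix.ProjectiveSpecialLinearGroup (Fin 2) F

theorem charP_two_of_even (h : Even (Fintype.card F)) : CharP F 2 :=
  ringChar.of_eq (FiniteField.even_card_iff_char_two.2 (Nat.even_iff.1 h))

theorem mem_cen_of_commute_even [CharP F 2] {x g : P2} (hg : Commute g x) : g ∈ cen x := by
  obtain ⟨x, rfl⟩ := proj_surjective x
  obtain ⟨g, rfl⟩ := proj_surjective g
  rw [mem_cen_proj, mem_centralizer_singleton_iff]
  have h : proj (g * x) = proj (x * g) := by rw [map_mul, map_mul]; exact hg.eq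
  rcases proj_eq_iff.1 h with e | e
  · exact e.symm
  · rw [e]
    refine Subtype.ext ?_
    ext i j
    simp [CharTwo.neg_eq]

theorem sq_of_mem_cen_stdUni [CharP F 2] {u : P2} (hu : u ∈ cen (stdUni : P2)) : u * u = 1 := by
  haveI : Fact (Nat.Prime 2) := ⟨Nat.prime_two⟩
  rw [← pow_two]
  exact pow_char_eq_one_of_isUni 2 (isUni_of_mem_cen_stdUni hu)

theorem exists_conj_stdUni [CharP F 2] {v : P2} (hv : v ∈ cen (stdUni : P2)) (hv1 : v ≠ 1) :
    ∃ g ∈ normalizer ((cen (stdUni : P2)) : Set P2), g * stdUni * g⁻¹ = v := by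
  obtain ⟨z, rfl⟩ := proj_surjective v
  obtain ⟨z10, z00⟩ := mem_cen_stdUni.1 hv
  have hd := SL_det_two z
  rw [z10, mul_zero, sub_zero, ← z00] at hd
  have z1 : (z : M2) 0 0 = 1 := by
    have : ((z : M2) 0 0 - 1) ^ 2 = 0 := by
      linear_combination hd + (1 - (z : M2) 0 0) * (CharTwo.two_eq_zero (R := F))
    exact sub_eq_zero.1 (eq_zero_of_pow_eq_zero this)
  obtain ⟨c, hc⟩ := FiniteField.isSquare_of_char_two (ringChar.eq F 2) ((z : M2) 0 1)
  have z01 : (z : M2) 0 1 ≠ 0 := fun e => hv1 (proj_eq_one_iff.2 ⟨e, z10, z00⟩)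
  have hc0 : c ≠ 0 := fun e => z01 (by rw [hc, e, mul_zero])
  set d := dSL (Units.mk0 c hc0) with hd'
  refine ⟨proj d, borel_le_normalizer (mem_borel_proj.2 (by simp [hd', dSL_coe])), ?_⟩
  have hmat : d * upSL 1 = z * d := by
    apply SL_ext_two <;>
      simp [hd', SL_mul_entries, dSL_coe, upSL_coe, z10, z1, ← z00, hc, hc0]
  rw [stdUni, ← map_inv, ← map_mul, ← map_mul, hmat, mul_inv_cancel_right]

theorem transPart_even (h : Even (Fintype.card F)) (hq : 4 ≤ Fintype.card F) :
    TransPart (cen (stdUni : P2)) := by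
  haveI := charP_two_of_even h
  refine ⟨by rw [card_cen_stdUni]; exact hq, fun u hu => sq_of_mem_cen_stdUni hu, ?_, ?_⟩
  · intro g u hu hu1 hg
    rw [← cen_eq_of_mem stdUni_ne_one hu1 hu]
    exact mem_cen_of_commute_even hg
  · intro u hu v hv hu1 hv1
    obtain ⟨a, ha, rfl⟩ := exists_conj_stdUni hu hu1
    obtain ⟨b, hb, rfl⟩ := exists_conj_stdUni hv hv1
    exact ⟨b * a⁻¹, mul_mem hb (inv_mem ha), by group⟩

/-- `PSL₂(3)` is alternating of degree four. -/
theorem iso_altFour_three (h3 : Fintype.card F = 3) : Nonempty (P2 ≃* alternatingGroup (Fin 4)) := by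
  have hcard : Nat.card P2 = 12 := by
    have := card_PSL_two_mul (F := F)
    rw [h3] at this
    norm_num at this
    omega
  haveI : Fact (Nat.Prime 3) := ⟨Nat.prime_three⟩
  haveI : CharP F 3 := by
    obtain ⟨n, hp, hn⟩ := FiniteField.card F (ringChar F)
    have h1 : ringChar F = 3 :=
      ((Nat.prime_dvd_prime_iff_eq hp Nat.prime_three).1 (by
        rw [← h3, hn]; exact dvd_pow_self _ n.ne_zero))
    exact ringChar.of_eq h1
  refine S0228.result hcard fun z hz hcen => ?_
  have hcom : proj (upSL (1 : F)) * z = z * proj (upSL (1 : F)) := mem_center_iff.1 hcen _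
  obtain ⟨y, rfl⟩ := proj_surjective z
  rw [← map_mul, ← map_mul] at hcom
  rcases proj_eq_iff.1 hcom with h | h
  · -- a power of the unipotent element
    have hu : proj y ∈ cen (stdUni : P2) := by
      rw [stdUni, mem_cen_proj, mem_centralizer_singleton_iff]
      exact h
    have h3' : proj y ^ 3 = 1 := pow_char_eq_one_of_isUni 3 (isUni_of_mem_cen_stdUni hu)
    have := orderOf_dvd_of_pow_eq_one h3'
    rw [hz] at this
    omega
  · have e00 := congrFun (congrFun (congrArg Subtype.val h) 0) 0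
    have e10 := congrFun (congrFun (congrArg Subtype.val h) 1) 0
    simp [SL_mul_entries, upSL_coe, Matrix.vecMul, dotProduct, Fin.sum_univ_two, Matrix.mul_apply] at e00 e10
    have hd := SL_det_two y
    have h2 : (2 : F) ≠ 0 := by
      intro e
      have h30 : ((3 : ℕ) : F) = 0 := CharP.cast_eq_zero F 3
      exact one_ne_zero (α := F) (by linear_combination h30 - e)
    have hc : (y : M2) 1 0 = 0 :=
      (mul_eq_zero.1 (show (2 : F) * (y : M2) 1 0 = 0 by linear_combination e10)).resolve_left h2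
    have ha : (y : M2) 0 0 = 0 :=
      (mul_eq_zero.1 (show (2 : F) * (y : M2) 0 0 = 0 by linear_combination e00 - hc)).resolve_left h2
    rw [ha, hc] at hd
    simp at hd

theorem alt_four_sq : ∀ a b : alternatingGroup (Fin 4), a * a = 1 → b * b = 1 →
    a * b * (a * b) = 1 := by decide +kernel

theorem alt_four_conj : ∀ g a : alternatingGroup (Fin 4), a * a = 1 →
    g * a * g⁻¹ * (g * a * g⁻¹) = 1 := by decide +kernel

theorem alt_four_self' : ∀ p : alternatingGroup (Fin 4) × alternatingGroup (Fin 4),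
    p.2 * p.2 ≠ 1 ∨ p.2 = 1 ∨ p.1 * p.2 ≠ p.2 * p.1 ∨ p.1 * p.1 = 1 := by decide +kernel

theorem alt_four_self (g a : alternatingGroup (Fin 4)) (ha : a * a = 1) (ha1 : a ≠ 1)
    (h : g * a = a * g) : g * g = 1 :=
  (((alt_four_self' (g, a)).resolve_left (not_not.2 ha)).resolve_left ha1).resolve_left (not_not.2 h)

theorem alt_four_trans : ∀ a b : alternatingGroup (Fin 4), a * a = 1 → b * b = 1 → ¬ a = 1 →
    ¬ b = 1 → ∃ g, g * a * g⁻¹ = b := by decide +kernel

theorem transPart_three (h3 : Fintype.card F = 3) :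
    ∃ U : Subgroup P2, U.Normal ∧ TransPart U := by
  obtain ⟨ψ⟩ := iso_altFour_three h3
  have key : ∀ g : P2, g * g = 1 ↔ ψ g * ψ g = 1 := fun g => by
    rw [← map_mul]
    exact ⟨fun h => by rw [h, map_one], fun h => ψ.injective (by rw [h, map_one])⟩
  let U : Subgroup P2 :=
    { carrier := {g | g * g = 1}
      mul_mem' := fun {a b} ha hb => (key _).2 (by
        rw [map_mul]; exact alt_four_sq _ _ ((key a).1 ha) ((key b).1 hb))
      one_mem' := one_mul 1
      inv_mem' := fun {a} ha => by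
        show a⁻¹ * a⁻¹ = 1
        rw [← _root_.mul_inv_rev, ha, inv_one] }
  have hmem : ∀ g, g ∈ U ↔ g * g = 1 := fun _ => Iff.rfl
  have hN : U.Normal := ⟨fun a ha g => (key _).2 (by
    rw [map_mul, map_mul, map_inv]; exact alt_four_conj _ _ ((key a).1 ha))⟩
  refine ⟨U, hN, ⟨?_, fun u hu => hu, ?_, ?_⟩⟩
  · have e : U ≃ {a : alternatingGroup (Fin 4) // a * a = 1} :=
      Equiv.subtypeEquiv ψ.toEquiv fun g => key g
    rw [Nat.card_congr e, Nat.card_eq_fintype_card]
    decide
  · intro g u hu hu1 hg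
    exact (key g).2 (alt_four_self _ _ ((key u).1 hu)
      (fun e => hu1 (ψ.injective (by rw [e, map_one]))) (by rw [← map_mul, ← map_mul, hg.eq]))
  · intro u hu v hv hu1 hv1
    obtain ⟨g, hg⟩ := alt_four_trans _ _ ((key u).1 hu) ((key v).1 hv)
      (fun e => hu1 (ψ.injective (by rw [e, map_one])))
      (fun e => hv1 (ψ.injective (by rw [e, map_one])))
    refine ⟨ψ.symm g, ?_, ψ.injective (by rw [map_mul, map_mul, map_inv, ψ.apply_symm_apply, hg])⟩
    rw [normalizer_eq_top]
    exact mem_top _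

end Cfsg.Agent.H19.Ward
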