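import Cfsg.Prelude.Def_LieExceptional
import Cfsg.Prelude.Def_Sporadic
import Cfsg.Agent.H19.Ward.PslPart
import Cfsg.Agent.H2.ChiFour.CoverFive
import Cfsg.Agent.H56.CTwoAb.Small
import Cfsg.Agent.Linear.Simple
import Cfsg.Agent.Unitary.Center
import Cfsg.Agent.Unitary.Order
import Cfsg.Agent.S0205
import Cfsg.Agent.S0222
import Cfsg.Agent.S0448
import Cfsg.Agent.S3360

/-!
A simple group with abelian Sylow `2`-subgroups and `C(t) ≅ 2 × PSL₂(q)`: the cases `q` even,
`q = 3` and `q = 5`.
-/

set_option autoImplicit false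
set_option linter.unusedSectionVars false
set_option linter.style.haveILetI false

namespace Cfsg.Agent.H19.Ward

open Subgroup Cfsg.Agent.Linear.Dickson

theorem card_psl_three {F : Type*} [Field F] [Fintype F] (h3 : Fintype.card F = 3) :
    Nat.card (Matrix.ProjectiveSpecialLinearGroup (Fin 2) F) = 12 := by
  obtain ⟨ψ⟩ := iso_altFour_three h3
  rw [Nat.card_congr ψ.toEquiv, Nat.card_eq_fintype_card]
  rfl

variable {G : Type*} [Group G] [Finite G]

/-- A transitive subgroup of odd order on `⟨t⟩ × U` is semilinear, so `q - 1 ≤ log q + 1`. -/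
theorem card_bound [IsSimpleGroup G] (hab : ∀ P : Sylow 2 G, ∀ a b : P, a * b = b * a)
    {L : Type*} [Group L] [Finite L] {t : G} (ht : orderOf t = 2)
    {e : centralizer ({t} : Set G) ≃* Z2 × L} {U : Subgroup L} (h : TransPart U) :
    ∃ m : ℕ, 2 * Nat.card U = 2 ^ m ∧ Nat.card U ≤ m + 1 := by
  classical
  haveI : Fact (Nat.Prime 2) := ⟨Nat.prime_two⟩
  obtain ⟨S, hS⟩ := exists_sylow (e := e) h hab ht
  have htB := t_mem_blk (e := e) h ht
  have ht1 : t ≠ 1 := fun e' => by rw [e', orderOf_one] at ht; omega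
  let B : Subgroup G := blk e U
  have hmemS : ∀ x ∈ B, x ∈ S := fun x hx => by
    show x ∈ (S : Subgroup G)
    rw [hS]
    exact hx
  letI : CommGroup B :=
    { (inferInstance : Group B) with
      mul_comm := fun a b => by
        have h1 := hab S ⟨a.1, hmemS _ a.2⟩ ⟨b.1, hmemS _ b.2⟩
        exact Subtype.ext (congrArg Subtype.val h1 :) }
  letI : Module (ZMod 2) (Additive B) := AddCommGroup.zmodModule fun v => by
    obtain ⟨v, rfl⟩ := Additive.ofMul.surjective v
    rw [two_nsmul, ← ofMul_mul, show v * v = 1 from Subtype.ext (blk_sq h v.2), ofMul_one]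
  haveI : Nontrivial (Additive B) := by
    haveI : Nontrivial B := ⟨⟨⟨t, htB⟩, 1, fun e' => ht1 (congrArg Subtype.val e')⟩⟩
    infer_instance
  set φ := B.normalizerMonoidHom with hφ
  let H := φ.range
  have hHodd : Odd (Nat.card H) := by
    rw [show Nat.card H = φ.ker.index from (Subgroup.index_ker φ).symm]
    refine (Nat.odd_iff.2 (Nat.two_dvd_ne_zero.1 S.not_dvd_index)).of_dvd_nat ?_
    rw [hS]
    refine (Subgroup.index_dvd_of_le (fun n hn => ?_)).trans
      (Subgroup.relIndex_dvd_index_of_le (H := B) le_normalizer)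
    rw [MonoidHom.mem_ker]
    refine MulEquiv.ext fun b => Subtype.ext ?_
    show (n : G) * b * (n : G)⁻¹ = b
    have h1 : (n : G) * (b : G) = b * n :=
      congrArg Subtype.val (mul_comm (⟨(n : G), hn⟩ : B) b)
    rw [h1, mul_inv_cancel_right]
  let ρ : H →* (Additive B ≃ₗ[ZMod 2] Additive B) :=
    { toFun := fun x =>
        { MulEquiv.toAdditive (x : MulAut B) with
          map_smul' := fun c v => ZMod.map_smul
            (MulEquiv.toAdditive (x : MulAut B)).toAddMonoidHom c v }
      map_one' := LinearEquiv.ext fun _ => rfl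
      map_mul' := fun _ _ => LinearEquiv.ext fun _ => rfl }
  have hρ : Function.Injective ρ := fun x y hxy => Subtype.ext (MulEquiv.ext fun b =>
    Additive.ofMul.injective (LinearEquiv.congr_fun hxy (Additive.ofMul b)))
  let act : ∀ n : G, n ∈ normalizer (B : Set G) → H := fun n hn => ⟨φ ⟨n, hn⟩, ⟨_, rfl⟩⟩
  have hact : ∀ n hn (b : B), ((ρ (act n hn) (Additive.ofMul b)).toMul : G) = n * b * n⁻¹ :=
    fun _ _ _ => rfl
  have htrans : ∀ v w : Additive B, v ≠ 0 → w ≠ 0 → ∃ x : H, ρ x v = w := by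
    intro v w hv hw
    obtain ⟨v, rfl⟩ := Additive.ofMul.surjective v
    obtain ⟨w, rfl⟩ := Additive.ofMul.surjective w
    have hv1 : (v : G) ≠ 1 := fun e' => hv (congrArg Additive.ofMul (Subtype.ext e' : v = 1))
    have hw1 : (w : G) ≠ 1 := fun e' => hw (congrArg Additive.ofMul (Subtype.ext e' : w = 1))
    obtain ⟨a, ha, hav⟩ := trans_all h hab ht v.2 hv1
    obtain ⟨b, hb, hbw⟩ := trans_all h hab ht w.2 hw1
    refine ⟨act (b * a⁻¹) (mul_mem hb (inv_mem ha)), Additive.toMul.injective (Subtype.ext ?_)⟩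
    rw [hact]
    show b * a⁻¹ * v * (b * a⁻¹)⁻¹ = w
    rw [← hav, ← hbw]
    group
  have hcard : Nat.card (Additive B) = 2 * Nat.card U :=
    (Nat.card_congr Additive.toMul).trans (card_blk e U)
  rcases Cfsg.Agent.S3360.result 2 (Cfsg.Agent.S0205.result hHodd) ρ hρ htrans with
    ⟨K, _, _, e', hsemi⟩ | hbad
  swap
  · exfalso
    simp only [Set.mem_insert_iff, Set.mem_singleton_iff] at hbad
    omega
  -- the field has characteristic two
  haveI : CharP K 2 := CharTwo.of_one_ne_zero_of_two_eq_zero one_ne_zero (by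
    obtain ⟨v, hv⟩ := e'.surjective 1
    obtain ⟨v, rfl⟩ := Additive.ofMul.surjective v
    rw [← one_add_one_eq_two, ← hv, ← map_add, ← ofMul_mul,
      show v * v = 1 from Subtype.ext (blk_sq h v.2), ofMul_one, map_zero])
  letI : Algebra (ZMod 2) K := ZMod.algebra K 2
  refine ⟨Module.finrank (ZMod 2) K, ?_, ?_⟩
  · have h1 := Module.natCard_eq_pow_finrank (K := ZMod 2) (V := K)
    rw [Nat.card_zmod] at h1
    rw [← hcard, Nat.card_congr e'.toEquiv, h1]
  obtain ⟨u0, hu0, hu01, -⟩ := h.exists_ne 1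
  -- for each `u` an element fixing `t` and sending `u0` to `u`
  have hstab : ∀ u : {u : U // u ≠ 1}, ∃ n, ∃ hn : n ∈ normalizer (B : Set G), n * t * n⁻¹ = t ∧
      n * emb e ((1 : Z2), u0) * n⁻¹ = emb e ((1 : Z2), (u.1 : L)) := by
    rintro ⟨⟨u, hu⟩, hu1⟩
    obtain ⟨g, hg, hgu⟩ := h.trans u0 hu0 u hu hu01 (fun e' => hu1 (Subtype.ext e'))
    refine ⟨emb e ((1 : Z2), g), emb_mem_normalizer e U hg, ?_, ?_⟩
    · rw [mem_centralizer_singleton_iff.1 (emb_mem e _), mul_inv_cancel_right]
    · rw [← map_inv, ← map_mul, ← map_mul]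
      congr 1
      simp [hgu]
  choose n hn hnt hnu using hstab
  choose a σ hσ using fun u => hsemi (act (n u) (hn u))
  let T : {u : U // u ≠ 1} → (K →ₐ[ZMod 2] K) := fun u =>
    { (σ u).toRingHom with
      commutes' := fun r => RingHom.congr_fun
        (RingHom.ext_zmod ((σ u).toRingHom.comp (algebraMap (ZMod 2) K)) (algebraMap (ZMod 2) K)) r }
  have hT : Function.Injective T := by
    intro u v huv
    have hσe : ∀ x, σ u x = σ v x := fun x => AlgHom.congr_fun huv x
    set tb : Additive B := Additive.ofMul ⟨t, htB⟩ with htb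
    have hfix : ∀ w, ρ (act (n w) (hn w)) tb = tb := fun w =>
      Additive.toMul.injective (Subtype.ext (by rw [hact]; exact hnt w))
    have hne : σ v (e' tb) ≠ 0 := fun h0 => ht1 (by
      rw [EmbeddingLike.map_eq_zero_iff, EmbeddingLike.map_eq_zero_iff] at h0
      exact congrArg Subtype.val (congrArg Additive.toMul h0))
    have hau : a u = a v := by
      have h1 := hσ u tb
      have h2 := hσ v tb
      rw [hfix] at h1 h2
      rw [hσe] at h1
      exact mul_right_cancel₀ hne (h1.symm.trans h2)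
    have hsame : ∀ b, ρ (act (n u) (hn u)) b = ρ (act (n v) (hn v)) b := fun b =>
      e'.injective (by rw [hσ u, hσ v, hau, hσe])
    have hmem : emb e ((1 : Z2), u0) ∈ B := (emb_mem_blk e U).2 hu0
    have h3 : ((ρ (act (n u) (hn u)) (Additive.ofMul ⟨_, hmem⟩)).toMul : G) =
        ((ρ (act (n v) (hn v)) (Additive.ofMul ⟨_, hmem⟩)).toMul : G) := by rw [hsame]
    rw [hact, hact] at h3
    have h4 : emb e ((1 : Z2), (u.1 : L)) = emb e ((1 : Z2), (v.1 : L)) :=
      (hnu u).symm.trans (h3.trans (hnu v))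
    exact Subtype.ext (Subtype.ext (congrArg Prod.snd (emb_injective e h4)))
  have h1 := Nat.card_le_card_of_injective T hT
  have h2 : Nat.card (K →ₐ[ZMod 2] K) ≤ Module.finrank (ZMod 2) K :=
    card_algHom_le_finrank (ZMod 2) K K
  have h3 : Nat.card {u : U // u ≠ 1} = Nat.card U - 1 := by
    haveI := Fintype.ofFinite U
    rw [Nat.card_eq_fintype_card, Nat.card_eq_fintype_card, Fintype.card_subtype_compl,
      Fintype.card_subtype_eq]
  omega

section Rows

variable [IsSimpleGroup G] (hab : ∀ P : Sylow 2 G, ∀ a b : P, a * b = b * a)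
  {F : Type*} [Field F] [Fintype F] (t : G) (ht : orderOf t = 2)
  (e : centralizer ({t} : Set G) ≃*
    Multiplicative (ZMod 2) × Matrix.ProjectiveSpecialLinearGroup (Fin 2) F)
include hab ht e

/-- If `q` is even, then `q = 4`. -/
theorem card_eq_four_of_even (hq : 3 ≤ Fintype.card F) (heven : Even (Fintype.card F)) :
    Fintype.card F = 4 := by
  have hq4 : 4 ≤ Fintype.card F := by
    obtain ⟨k, hk⟩ := heven
    omega
  obtain ⟨m, hm, hle⟩ := card_bound hab ht (e := e) (transPart_even heven hq4)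
  rw [card_cen_stdUni] at hm hle
  have key : ∀ k, 4 ≤ k → 2 * (k + 1) < 2 ^ k := by
    intro k hk
    induction k, hk using Nat.le_induction with
    | base => norm_num
    | succ j hj ih => rw [pow_succ]; omega
  by_contra hne
  rcases lt_or_ge m 4 with h | h
  · interval_cases m <;> omega
  · have := key m h
    omega

/-- `q = 3` does not occur. -/
theorem card_ne_three : Fintype.card F ≠ 3 := by
  classical
  intro h3
  haveI : Fact (Nat.Prime 2) := ⟨Nat.prime_two⟩
  obtain ⟨U, hUn, h⟩ := transPart_three h3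
  obtain ⟨S, hS⟩ := exists_sylow (e := e) h hab ht
  have hU4 : Nat.card U = 4 := by
    have h2 := h.four
    have h1 : Nat.card U ∣ Nat.card (Matrix.ProjectiveSpecialLinearGroup (Fin 2) F) :=
      U.card_subgroup_dvd_card
    obtain ⟨k, hk⟩ := (IsPGroup.iff_card.1 h.isPGroup)
    rw [card_psl_three h3, hk] at h1
    rw [hk] at h2 ⊢
    have hk4 : k ≤ 3 := by
      by_contra hcon
      have := Nat.pow_le_pow_right two_pos (show 4 ≤ k by omega)
      have := Nat.le_of_dvd (by norm_num) h1
      omega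
    interval_cases k <;> simp_all
  have hScard : Nat.card (S : Subgroup G) = 8 := by rw [hS, card_blk e U, hU4]
  have h16 : ¬ 16 ∣ Nat.card G := by
    rintro ⟨c, hc⟩
    have h2 := (S : Subgroup G).card_mul_index
    rw [hScard, hc] at h2
    exact S.not_dvd_index ⟨c, by omega⟩
  -- centralisers of involutions normalise the block
  have hCN : centralizer ({t} : Set G) ≤ normalizer (blk e U : Set G) := fun g hg => by
    obtain ⟨x, rfl⟩ := exists_emb e hg
    exact emb_mem_normalizer e U (by rw [normalizer_eq_top]; exact mem_top _)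
  have hcard24 : Nat.card (centralizer ({t} : Set G)) = 24 := by
    rw [Nat.card_congr e.toEquiv, Nat.card_prod, card_psl_three h3]
    simp
  have hinv : ∀ x ∈ blk e U, x ≠ 1 →
      centralizer ({x} : Set G) ≤ normalizer (blk e U : Set G) := by
    intro x hx hx1 g hg
    obtain ⟨n, hn, rfl⟩ := trans_all h hab ht hx hx1
    have hg' : n⁻¹ * g * n ∈ centralizer ({t} : Set G) := by
      rw [mem_centralizer_singleton_iff] at hg ⊢
      calc n⁻¹ * g * n * t = n⁻¹ * (g * (n * t * n⁻¹)) * n := by group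
        _ = n⁻¹ * (n * t * n⁻¹ * g) * n := by rw [hg]
        _ = t * (n⁻¹ * g * n) := by group
    have := mul_mem (mul_mem hn (hCN hg')) (inv_mem hn)
    simpa [mul_assoc] using this
  have hna := not_commutative h e
  have hmemS : ∀ x ∈ blk e U, x ∈ S := fun x hx => by
    show x ∈ (S : Subgroup G)
    rw [hS]
    exact hx
  set N := normalizer (blk e U : Set G) with hN
  have hBne : blk e U ≠ ⊤ := fun htop => by
    obtain ⟨p, q, hpq⟩ := hna
    exact hpq (congrArg Subtype.val
      (hab S ⟨p, hmemS _ (htop ▸ mem_top p)⟩ ⟨q, hmemS _ (htop ▸ mem_top q)⟩))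
  have hBbot : blk e U ≠ ⊥ := fun hbot => by
    have := t_mem_blk (e := e) h ht
    rw [hbot, mem_bot] at this
    rw [this, orderOf_one] at ht
    omega
  have hse : Cfsg.IsStronglyEmbedded N := by
    refine ⟨fun htop => ?_, even_iff_two_dvd.2 (ht ▸ orderOf_dvd_natCard N
      (le_normalizer (t_mem_blk (e := e) h ht))), fun g hg => ?_⟩
    · rcases (normalizer_eq_top_iff.1 htop).eq_bot_or_eq_top with h1 | h1
      exacts [hBbot h1, hBne h1]
    rw [← Nat.not_even_iff_odd]
    intro hev
    obtain ⟨⟨x, hxN, hxg⟩, hx⟩ := exists_prime_orderOf_dvd_card'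
      (G := ↥(N ⊓ N.map (MulAut.conj g).toMonoidHom)) 2 (even_iff_two_dvd.1 hev)
    rw [← Subgroup.orderOf_coe] at hx
    simp only at hx
    have hmemB : ∀ y ∈ N, orderOf y = 2 → y ∈ blk e U := fun y hy hy2 => by
      let P : Sylow 2 N := S.subtype (hS ▸ le_normalizer)
      haveI hPn : (P : Subgroup N).Normal := by
        show ((S : Subgroup G).subgroupOf N).Normal
        rw [hS]
        exact normal_in_normalizer
      haveI : Unique (Sylow 2 N) := P.unique_of_normal hPn
      have hp : IsPGroup 2 (zpowers (⟨y, hy⟩ : N)) :=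
        IsPGroup.of_card (n := 1) (by rw [Nat.card_zpowers, ← Subgroup.orderOf_coe, hy2, pow_one])
      obtain ⟨Q, hQ⟩ := hp.exists_le_sylow
      have h5 := hQ (mem_zpowers _)
      rw [Subsingleton.elim Q P] at h5
      have h6 : (⟨y, hy⟩ : N) ∈ (S : Subgroup G).subgroupOf N := h5
      rw [mem_subgroupOf, hS] at h6
      exact h6
    have hx1 : x ≠ 1 := fun e' => by rw [e', orderOf_one] at hx; omega
    have hxB := hmemB x hxN hx
    obtain ⟨y, hy, hyx⟩ := hxg
    simp only [MulEquiv.coe_toMonoidHom, MulAut.conj_apply] at hyx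
    have hy2 : orderOf y = 2 := by
      rw [← hx, ← hyx]
      exact (orderOf_injective (MulAut.conj g).toMonoidHom (MulAut.conj g).injective y).symm
    have hyB := hmemB y hy hy2
    -- the conjugate block centralises `x`
    refine hg ?_
    have hle : (blk e U).map (MulAut.conj g).toMonoidHom ≤ N := by
      refine le_trans ?_ (hinv x hxB hx1)
      rintro _ ⟨b, hb, rfl⟩
      rw [mem_centralizer_singleton_iff, ← hyx]
      simp only [MulEquiv.coe_toMonoidHom, MulAut.conj_apply]
      have hby : b * y = y * b :=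
        congrArg Subtype.val (hab S ⟨b, hmemS _ hb⟩ ⟨y, hmemS _ hyB⟩)
      calc g * b * g⁻¹ * (g * y * g⁻¹) = g * (b * y) * g⁻¹ := by group
        _ = g * y * g⁻¹ * (g * b * g⁻¹) := by rw [hby]; group
    have heq : (blk e U).map (MulAut.conj g).toMonoidHom = blk e U := by
      refine Subgroup.eq_of_le_of_card_ge (fun z hz => ?_) (by
        rw [Subgroup.card_map_of_injective (MulAut.conj g).injective])
      by_cases hz1 : z = 1
      · exact hz1 ▸ one_mem _
      refine hmemB z (hle hz) ?_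
      obtain ⟨b, hb, rfl⟩ := hz
      rw [orderOf_injective _ (MulAut.conj g).injective]
      refine orderOf_eq_prime (by rw [pow_two]; exact blk_sq h hb) fun e' => hz1 ?_
      rw [e', map_one]
    refine mem_normalizer_iff.2 fun z => ⟨fun hz => ?_, fun hz => ?_⟩
    · rw [← heq]
      exact ⟨z, hz, rfl⟩
    · rw [← heq] at hz
      obtain ⟨b, hb, hbz⟩ := hz
      exact (MulAut.conj g).injective hbz ▸ hb
  rcases Cfsg.Agent.S0222.result hna N hse with
    ⟨K, _, _, hK, hK4, ⟨ψ⟩⟩ | ⟨-, m, hm, hm'⟩ | ⟨K, _, _, q, hKq, hqe, hq4, ⟨ψ⟩⟩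
  · -- the centraliser would be a `2`-group
    haveI := hK
    have hKe : Even (Fintype.card K) := by
      obtain ⟨k, -, hk⟩ := FiniteField.card K 2
      rw [hk]
      exact even_two.pow_of_ne_zero k.ne_zero
    have hT := transPart_even hKe hK4
    obtain ⟨P, hP⟩ := (hT.isPGroup).exists_le_sylow
    have hPU : (P : Subgroup (Matrix.ProjectiveSpecialLinearGroup (Fin 2) K)) =
        cen (Linear.Dickson.stdUni) := by
      refine le_antisymm (fun g hg => ?_) hP
      have hPab : ∀ a b : P, a * b = b * a := fun a b => by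
        let R : Sylow 2 G := P.comapOfInjective ψ.toMonoidHom ψ.injective
          (by rw [MonoidHom.range_eq_top.2 ψ.surjective]; exact le_top)
        have hmem : ∀ c : P, ψ.symm c ∈ R := fun c => by
          show ψ.toMonoidHom (ψ.symm c) ∈ (P : Subgroup _)
          simp
        have h1 := congrArg Subtype.val (hab R ⟨_, hmem a⟩ ⟨_, hmem b⟩)
        exact Subtype.ext (ψ.symm.injective (by simpa using h1))
      obtain ⟨u, hu, hu1, -⟩ := hT.exists_ne 1
      exact hT.self g u hu hu1 (congrArg Subtype.val (hPab ⟨g, hg⟩ ⟨u, hP hu⟩))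
    have hp : IsPGroup 2 (zpowers (ψ t)) := IsPGroup.of_card (n := 1) (by
      rw [Nat.card_zpowers, pow_one]
      exact (orderOf_injective ψ.toMonoidHom ψ.injective t).trans ht)
    obtain ⟨Q, hQ⟩ := hp.exists_le_sylow
    obtain ⟨g, hg⟩ := MulAction.exists_smul_eq (Matrix.ProjectiveSpecialLinearGroup (Fin 2) K) P Q
    have ht' : g⁻¹ * ψ t * g ∈ cen (Linear.Dickson.stdUni (F := K)) := by
      rw [← hPU]
      have h5 := hQ (mem_zpowers (ψ t))
      rw [← hg] at h5
      obtain ⟨p, hp', hpe⟩ := h5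
      rw [← hpe]
      show g⁻¹ * (g * p * g⁻¹) * g ∈ (P : Subgroup _)
      rw [show g⁻¹ * (g * p * g⁻¹) * g = p by group]
      exact hp'
    have ht1' : g⁻¹ * ψ t * g ≠ 1 := fun e' => by
      have : ψ t = 1 := by
        calc ψ t = g * (g⁻¹ * ψ t * g) * g⁻¹ := by group
          _ = 1 := by rw [e']; group
      rw [ψ.map_eq_one_iff] at this
      rw [this, orderOf_one] at ht
      omega
    let f : centralizer ({t} : Set G) →* Matrix.ProjectiveSpecialLinearGroup (Fin 2) K :=
      ((MulAut.conj g⁻¹).toMonoidHom.comp ψ.toMonoidHom).comp (centralizer ({t} : Set G)).subtype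
    have hf : Function.Injective f :=
      ((MulAut.conj g⁻¹).injective.comp ψ.injective).comp (Subgroup.subtype_injective _)
    have hfU : f.range ≤ cen (Linear.Dickson.stdUni) := by
      rintro _ ⟨c, rfl⟩
      refine hT.self _ _ ht' ht1' ?_
      have hc : Commute (c : G) t := mem_centralizer_singleton_iff.1 c.2
      have h6 := (hc.map ψ.toMonoidHom).map (MulAut.conj g⁻¹).toMonoidHom
      simpa [f] using h6
    obtain ⟨k, hk⟩ := IsPGroup.iff_card.1 (hT.isPGroup.to_le hfU)
    rw [Nat.card_congr (MonoidHom.ofInjective hf).symm.toEquiv, hcard24] at hk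
    have h7 : 3 ∣ 2 ^ k := hk ▸ (by norm_num : 3 ∣ 24)
    exact absurd (Nat.prime_three.dvd_of_dvd_pow h7) (by norm_num)
  · refine h16 (hm' ▸ dvd_mul_of_dvd_left (dvd_mul_of_dvd_left ?_ _) _)
    rw [← pow_mul]
    exact (show 16 = 2 ^ 4 from rfl) ▸ pow_dvd_pow 2 (by omega)
  · -- `q³` divides the order of `PSU₃(q)`
    refine h16 ?_
    obtain ⟨j, hj⟩ : ∃ j, q = 2 ^ j := by
      obtain ⟨n, hp, hn⟩ := FiniteField.card K (ringChar K)
      have h2 : 2 ∣ ringChar K ^ (n : ℕ) := by
        rw [← hn, hKq]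
        exact Dvd.dvd.pow (even_iff_two_dvd.1 hqe) two_ne_zero
      have hp2 : ringChar K = 2 :=
        ((Nat.prime_dvd_prime_iff_eq Nat.prime_two hp).1 (Nat.prime_two.dvd_of_dvd_pow h2)).symm
      rw [hp2, hKq] at hn
      obtain ⟨j, -, hj⟩ := (Nat.dvd_prime_pow Nat.prime_two).1
        (hn ▸ dvd_pow_self q two_ne_zero : q ∣ 2 ^ (n : ℕ))
      exact ⟨j, hj⟩
    have hj2 : 2 ≤ j := by
      by_contra hcon
      interval_cases j <;> omega
    have h1 := Unitary.card_PSU (n := 3) hKq (by norm_num)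
    have h2 := Unitary.card_GU_eq_mul_card_SU (n := 3) hKq (by norm_num)
    rw [Unitary.card_GU hKq] at h2
    have h3' : q ^ 3 ∣ (q + 1) * (Nat.gcd 3 (q + 1) * Nat.card (Cfsg.PSU 3 K q)) := by
      rw [h1, ← h2]
      exact dvd_mul_of_dvd_left (by norm_num) _
    have hq1 : Nat.Coprime (q ^ 3) (q + 1) :=
      Nat.Coprime.pow_left 3 (by simp)
    have hq3 : Nat.Coprime (q ^ 3) (Nat.gcd 3 (q + 1)) :=
      hq1.coprime_dvd_right (Nat.gcd_dvd_right _ _)
    rw [Nat.card_congr ψ.toEquiv]
    refine dvd_trans ?_ (hq3.dvd_of_dvd_mul_left (hq1.dvd_of_dvd_mul_left h3'))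
    rw [hj, ← pow_mul]
    exact (show 16 = 2 ^ 4 from rfl) ▸ pow_dvd_pow 2 (by omega)

/-- The cases `q = 4, 5` give the smallest Janko group. -/
theorem isJ1_of_four_five (h45 : Fintype.card F = 4 ∨ Fintype.card F = 5) : Cfsg.IsJ1 G := by
  haveI : Fact (Nat.Prime 2) := ⟨Nat.prime_two⟩
  have hcard : Nat.card (Matrix.ProjectiveSpecialLinearGroup (Fin 2) F) = 60 := by
    have hc := Linear.card_PSL_two_mul (F := F)
    rcases h45 with h | h <;> rw [h] at hc <;> norm_num at hc <;> omega
  haveI : IsSimpleGroup (Matrix.ProjectiveSpecialLinearGroup (Fin 2) F) :=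
    Linear.isSimpleGroup_PSL_fin le_rfl fun _ => by rw [Nat.card_eq_fintype_card]; omega
  obtain ⟨ψ⟩ := H56.CTwoAb.iso_alt_of_card_sixty hcard
  have hp : IsPGroup 2 (zpowers t) := IsPGroup.of_card (n := 1) (by
    rw [Nat.card_zpowers, ht, pow_one])
  obtain ⟨P, hP⟩ := hp.exists_le_sylow
  have htP : t ∈ P := hP (mem_zpowers t)
  exact Cfsg.Agent.S0448.result t
    ⟨ht, P, htP, fun x hx => congrArg Subtype.val (hab P ⟨x, hx⟩ ⟨t, htP⟩)⟩
    (e.trans (MulEquiv.prodCongr (MulEquiv.refl _) ψ))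

/-- Either the smallest Janko group or `q ≥ 7` is odd. -/
theorem isJ1_or_odd_seven_le (hq : 3 ≤ Fintype.card F) :
    ((Fintype.card F = 4 ∨ Fintype.card F = 5) ∧ Cfsg.IsJ1 G) ∨
      (Odd (Fintype.card F) ∧ 7 ≤ Fintype.card F) := by
  by_cases h45 : Fintype.card F = 4 ∨ Fintype.card F = 5
  · exact Or.inl ⟨h45, isJ1_of_four_five hab t ht e h45⟩
  · have h3 := card_ne_three hab t ht e
    have hodd : Odd (Fintype.card F) := Nat.not_even_iff_odd.1 fun hev =>
      h45 (Or.inl (card_eq_four_of_even hab t ht e hq hev))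
    obtain ⟨k, hk⟩ := hodd
    exact Or.inr ⟨⟨k, hk⟩, by omega⟩

end Rows

end Cfsg.Agent.H19.Ward
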